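/-
The chief section `A / C_Y(L)` of a `Y`-minimal group: fixed spaces of the conjugates of `Y`.
-/
import Cfsg.Agent.Lib.LocalEven.Basic
import Cfsg.Agent.Lib.Solvable.Basic
import Mathlib.Algebra.Group.TypeTags.Hom

set_option autoImplicit false
set_option linter.unusedSectionVars false

namespace Cfsg.Agent.FrakLFix

open Cfsg.Agent.LEBasic
open scoped commutatorElement

variable {L : Type*} [Group L] [Finite L] {p : ℕ} [Fact p.Prime] {Y : Subgroup L}

/-- The hypotheses, inside the group `L`. -/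
structure Data (p : ℕ) (Y : Subgroup L) : Prop where
  comm : ∀ a ∈ Y, ∀ b ∈ Y, a * b = b * a
  expo : ∀ a ∈ Y, a ^ p = 1
  pgrp : IsPGroup p ↥Y
  hA : Cfsg.pCore p L = Subgroup.normalClosure ((Y ⊓ Cfsg.pCore p L : Subgroup L) : Set L)
  hAY : Cfsg.pCore p L ≤ Subgroup.normalizer (Y : Set L)
  gen : Subgroup.normalClosure (Y : Set L) = ⊤
  hmax : ∀ X : Subgroup L, Y ≤ X → X ≠ ⊤ → X ≤ Subgroup.normalizer (Y : Set L)
  hB : Subgroup.normalizer (Y : Set L) ≠ ⊤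

/-- The conjugate `Y ^ g`. -/
def Yc (Y : Subgroup L) (g : L) : Subgroup L := Y.map (MulAut.conj g).toMonoidHom

/-- The subgroup `Y ^ g ∩ O_p(L)`. -/
def U (p : ℕ) (Y : Subgroup L) (g : L) : Subgroup L := Yc Y g ⊓ Cfsg.pCore p L

/-- `C_Y(L)`. -/
def C (Y : Subgroup L) : Subgroup L := Y ⊓ Subgroup.center L

theorem pCore_conj_mem {a : L} (ha : a ∈ Cfsg.pCore p L) (g : L) : g * a * g⁻¹ ∈ Cfsg.pCore p L :=
  (Cfsg.pCore_normal p L).conj_mem a ha g

theorem mem_Yc {g x : L} : x ∈ Yc Y g ↔ g⁻¹ * x * g ∈ Y := mem_map_conj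

theorem Yc_one : Yc Y 1 = Y := map_conj_one Y

theorem Yc_map (g k : L) : (Yc Y g).map (MulAut.conj k).toMonoidHom = Yc Y (k * g) := map_conj_map_conj Y k g

theorem C_central {c : L} (hc : c ∈ C Y) (x : L) : x * c = c * x :=
  Subgroup.mem_center_iff.1 (Subgroup.mem_inf.1 hc).2 x

theorem C_le_Yc (g : L) : C Y ≤ Yc Y g := fun c hc => by
  rw [mem_Yc, mul_assoc, ← C_central hc g, inv_mul_cancel_left]
  exact (Subgroup.mem_inf.1 hc).1

namespace Data

variable (D : Data p Y)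
include D

theorem not_le : ¬ Y ≤ Cfsg.pCore p L := fun h => by
  have h1 : (⊤ : Subgroup L) ≤ Cfsg.pCore p L := by
    rw [← D.gen]
    have := Cfsg.pCore_normal p L
    exact Subgroup.normalClosure_le_normal h
  exact D.hB (top_le_iff.1 (h1.trans D.hAY))

theorem gen_two {g : L} (hg : g ∉ Subgroup.normalizer (Y : Set L)) : Y ⊔ Yc Y g = ⊤ := by
  by_contra hne
  have h1 : Y ⊔ Yc Y g ≤ Subgroup.normalizer (Y : Set L) := D.hmax _ le_sup_left hne
  obtain ⟨B, hBdef⟩ : ∃ B, B = Subgroup.normalizer (Y : Set L) := ⟨_, rfl⟩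
  have hB : B ≠ ⊤ := hBdef ▸ D.hB
  have h2 : B.map (MulAut.conj g⁻¹).toMonoidHom ≤ B := by
    rw [hBdef]
    refine D.hmax _ ?_ ?_
    · have h3 := map_conj_mono g⁻¹ (le_sup_right.trans h1)
      rwa [Yc_map, inv_mul_cancel, Yc_one] at h3
    · intro h
      have h3 := congrArg (Subgroup.map (MulAut.conj g).toMonoidHom) h
      rw [map_conj_map_conj, mul_inv_cancel, map_conj_one,
        Subgroup.map_top_of_surjective _ (MulAut.conj g).surjective] at h3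
      exact D.hB h3
  have h4 : g⁻¹ ∈ Subgroup.normalizer (B : Set L) :=
    map_conj_eq_iff_mem_normalizer.1 (Subgroup.eq_of_le_of_card_ge h2 (card_map_conj B g⁻¹).ge)
  have h5 : Subgroup.normalizer (B : Set L) ≠ ⊤ := by
    intro h
    have hn : B.Normal := Subgroup.normalizer_eq_top_iff.1 h
    exact hB (top_le_iff.1 (D.gen ▸ Subgroup.normalClosure_le_normal (hBdef ▸ Subgroup.le_normalizer)))
  have h6 := D.hmax _ ((hBdef ▸ Subgroup.le_normalizer : Y ≤ B).trans Subgroup.le_normalizer) h5 h4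
  exact hg (inv_inv g ▸ inv_mem h6)

theorem gen_pair {g k : L} (h : Yc Y g ≠ Yc Y k) : Yc Y g ⊔ Yc Y k = ⊤ := by
  have h1 : g⁻¹ * k ∉ Subgroup.normalizer (Y : Set L) := fun hn => h (by
    have := congrArg (Subgroup.map (MulAut.conj g).toMonoidHom) (map_conj_eq_iff_mem_normalizer.2 hn)
    rw [map_conj_map_conj, mul_inv_cancel_left] at this
    exact this.symm)
  have h2 := congrArg (Subgroup.map (MulAut.conj g).toMonoidHom) (D.gen_two h1)
  rwa [Subgroup.map_sup, Yc_map, mul_inv_cancel_left,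
    Subgroup.map_top_of_surjective _ (MulAut.conj g).surjective] at h2

theorem comm_Yc {g a b : L} (ha : a ∈ Yc Y g) (hb : b ∈ Yc Y g) : a * b = b * a := by
  have h := D.comm _ (mem_Yc.1 ha) _ (mem_Yc.1 hb)
  have h' := congrArg (fun x => g * x * g⁻¹) h
  simpa [mul_assoc] using h'

theorem expo_Yc {g x : L} (hx : x ∈ Yc Y g) : x ^ p = 1 := by
  rw [show x = g * (g⁻¹ * x * g) * g⁻¹ by group, conj_pow, D.expo _ (mem_Yc.1 hx), mul_one, mul_inv_cancel]

theorem C_le_A : C Y ≤ Cfsg.pCore p L := by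
  refine le_pCore ?_ (D.pgrp.to_le inf_le_left)
  exact ⟨fun c hc x => by rw [C_central hc x, mul_inv_cancel_right]; exact hc⟩

theorem C_le_U (g : L) : C Y ≤ U p Y g := le_inf (C_le_Yc g) D.C_le_A

theorem inter {g k : L} (h : Yc Y g ≠ Yc Y k) {x : L} (hg : x ∈ U p Y g) (hk : x ∈ U p Y k) : x ∈ C Y := by
  have hg' := (Subgroup.mem_inf.1 hg).1
  have hk' := (Subgroup.mem_inf.1 hk).1
  have hc : ∀ y : L, y * x = x * y := by
    intro y
    have h1 : (⊤ : Subgroup L) ≤ Subgroup.centralizer ({x} : Set L) := by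
      rw [← D.gen_pair h]
      exact sup_le (fun z hz => Subgroup.mem_centralizer_singleton_iff.2 (D.comm_Yc hz hg'))
        (fun z hz => Subgroup.mem_centralizer_singleton_iff.2 (D.comm_Yc hz hk'))
    exact Subgroup.mem_centralizer_singleton_iff.1 (h1 (Subgroup.mem_top y))
  refine Subgroup.mem_inf.2 ⟨?_, Subgroup.mem_center_iff.2 hc⟩
  have h2 := mem_Yc.1 hg'
  rwa [mul_assoc, ← hc g, inv_mul_cancel_left] at h2

theorem move {g t a : L} (ht : t ∈ Yc Y g) (ha : a ∈ Cfsg.pCore p L) : t * a * t⁻¹ * a⁻¹ ∈ U p Y g := by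
  refine Subgroup.mem_inf.2 ⟨?_, mul_mem (pCore_conj_mem ha t) (inv_mem ha)⟩
  rw [show t * a * t⁻¹ * a⁻¹ = t * (a * t⁻¹ * a⁻¹) by group]
  refine mul_mem ht ?_
  rw [mem_Yc]
  have h1 : g⁻¹ * a * g ∈ Subgroup.normalizer (Y : Set L) := D.hAY (by simpa using pCore_conj_mem ha g⁻¹)
  have h2 := (Subgroup.mem_normalizer_iff.1 h1 _).1 (inv_mem (mem_Yc.1 ht))
  simpa [mul_assoc] using h2

theorem U_normal {g : L} : Cfsg.pCore p L ≤ Subgroup.normalizer (U p Y g : Set L) := by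
  intro a ha
  rw [← map_conj_eq_iff_mem_normalizer]
  refine Subgroup.eq_of_le_of_card_ge ?_ (card_map_conj _ _).ge
  rintro _ ⟨u, hu, rfl⟩
  obtain ⟨hu1, hu2⟩ := Subgroup.mem_inf.1 hu
  have h := inv_mem (D.move hu1 ha)
  have e : MulAut.conj a u = (u * a * u⁻¹ * a⁻¹)⁻¹ * u := by simp [MulAut.conj_apply, mul_assoc]
  show MulAut.conj a u ∈ U p Y g
  rw [e]; exact mul_mem h hu

theorem decomp {g : L} (hg : Yc Y g ≠ Y) {a : L} (ha : a ∈ Cfsg.pCore p L) :
    ∃ u ∈ U p Y 1, ∃ w ∈ U p Y g, a = u * w := by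
  obtain ⟨S, hS⟩ : ∃ S, S = U p Y 1 ⊔ U p Y g := ⟨_, rfl⟩
  have hSA : S ≤ Cfsg.pCore p L := hS ▸ sup_le inf_le_right inf_le_right
  have hkey : ∀ k, U p Y k ≤ S → Yc Y k ≤ Subgroup.normalizer (S : Set L) := by
    intro k hk t ht
    rw [← map_conj_eq_iff_mem_normalizer]
    refine Subgroup.eq_of_le_of_card_ge ?_ (card_map_conj _ _).ge
    rintro _ ⟨s, hs, rfl⟩
    have e : MulAut.conj t s = t * s * t⁻¹ * s⁻¹ * s := by simp [MulAut.conj_apply, mul_assoc]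
    show MulAut.conj t s ∈ S
    rw [e]; exact mul_mem (hk (D.move ht (hSA hs))) hs
  have h1 : S.Normal := by
    rw [← Subgroup.normalizer_eq_top_iff, eq_top_iff,
      ← D.gen_two (g := g) (fun h => hg (map_conj_eq_iff_mem_normalizer.2 h))]
    exact sup_le (Yc_one.ge.trans (hkey 1 (hS ▸ le_sup_left))) (hkey g (hS ▸ le_sup_right))
  have h2 : Cfsg.pCore p L ≤ S := by
    refine D.hA.le.trans (Subgroup.normalClosure_le_normal ?_)
    intro x hx
    rw [hS]; exact Subgroup.mem_sup_left (show x ∈ U p Y 1 by rw [U, Yc_one]; exact hx)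
  have h3 := h2 ha
  rw [hS] at h3
  obtain ⟨u, hu, w, hw, e⟩ := (SolvBasic.mem_sup_iff_of_le_normalizer
    (inf_le_right.trans (D.U_normal (g := 1)))).1 h3
  exact ⟨u, hu, w, hw, e⟩

theorem exists_ne : ∃ g, Yc Y g ≠ Y := by
  by_contra h
  push Not at h
  refine D.hB (eq_top_iff.2 fun g _ => map_conj_eq_iff_mem_normalizer.1 (h g))

theorem fix_one {y a : L} (hy : y ∈ Y) (hyA : y ∉ Cfsg.pCore p L) (ha : a ∈ Cfsg.pCore p L)
    (hc : y * a * y⁻¹ * a⁻¹ ∈ C Y) : a ∈ U p Y 1 := by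
  -- `y` lies outside some conjugate of the normalizer of `Y`
  obtain ⟨g, hg⟩ : ∃ g, g⁻¹ * y * g ∉ Subgroup.normalizer (Y : Set L) := by
    by_contra h
    push Not at h
    obtain ⟨K, hK⟩ : ∃ K, K = (Subgroup.normalizer (Y : Set L)).normalCore := ⟨_, rfl⟩
    have hyK : y ∈ K := by
      rw [hK]; intro z
      simpa using h z⁻¹
    have hKn : K.Normal := hK ▸ Subgroup.normalCore_normal _
    have hKY : K ≤ Subgroup.normalizer (Y : Set L) := hK ▸ Subgroup.normalCore_le _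
    refine hyA ?_
    have hp' : IsPGroup p ↥(Y.subgroupOf K) := D.pgrp.comap_of_injective K.subtype K.subtype_injective
    have hn' : (Y.subgroupOf K).Normal := ⟨fun z hz k => by
      simpa [Subgroup.mem_subgroupOf] using (Subgroup.mem_normalizer_iff.1 (hKY k.2) _).1 hz⟩
    have h1 : (⟨y, hyK⟩ : K) ∈ Cfsg.pCore p ↥K := le_pCore hn' hp' hy
    haveI : (Cfsg.pCore p ↥K).Characteristic := pCore_characteristic
    have h2 : ((Cfsg.pCore p ↥K).map K.subtype).Normal := inferInstance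
    exact le_pCore h2 (pCore_isPGroup.map _) ⟨_, h1, rfl⟩
  have hgY : Yc Y g ≠ Y := fun h => hg (by
    have : y ∈ Subgroup.normalizer (Yc Y g : Set L) := h.symm ▸ Subgroup.le_normalizer hy
    rw [← map_conj_eq_iff_mem_normalizer, Yc_map] at this
    have h' := congrArg (Subgroup.map (MulAut.conj g⁻¹).toMonoidHom) this
    rw [Yc_map, Yc_map, inv_mul_cancel, Yc_one, ← mul_assoc] at h'
    exact map_conj_eq_iff_mem_normalizer.1 h')
  obtain ⟨u, hu, w, hw, rfl⟩ := D.decomp hgY ha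
  obtain ⟨huY, -⟩ := Subgroup.mem_inf.1 hu
  rw [Yc_one] at huY
  have hyu := D.comm y hy u huY
  have hc' : y * w * y⁻¹ * w⁻¹ ∈ C Y := by
    have e : y * w * y⁻¹ * w⁻¹ = u⁻¹ * (y * (u * w) * y⁻¹ * (u * w)⁻¹) * u := by
      rw [← mul_assoc y u w, hyu]; group
    rw [e, mul_assoc, ← C_central hc u, inv_mul_cancel_left]; exact hc
  have hw' : w ∈ U p Y (y⁻¹ * g) := by
    obtain ⟨hwY, hwA⟩ := Subgroup.mem_inf.1 hw
    refine Subgroup.mem_inf.2 ⟨?_, hwA⟩
    have h1 : y * w * y⁻¹ ∈ Yc Y g := by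
      have := mul_mem (C_le_Yc g hc') hwY
      simpa using this
    rw [mem_Yc] at h1 ⊢
    simpa [mul_assoc] using h1
  refine mul_mem hu (D.C_le_U 1 (D.inter ?_ hw hw'))
  intro h
  apply hg
  rw [← map_conj_eq_iff_mem_normalizer]
  have h' := congrArg (fun S => (Subgroup.map (MulAut.conj y).toMonoidHom S).map (MulAut.conj g⁻¹).toMonoidHom) h
  simp only [Yc_map, mul_inv_cancel_left, inv_mul_cancel, Yc_one] at h'
  rw [← mul_assoc] at h'
  exact h'

theorem fix {g t a : L} (ht : t ∈ Yc Y g) (htA : t ∉ Cfsg.pCore p L) (ha : a ∈ Cfsg.pCore p L)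
    (hc : t * a * t⁻¹ * a⁻¹ ∈ C Y) : a ∈ U p Y g := by
  have h := D.fix_one (y := g⁻¹ * t * g) (a := g⁻¹ * a * g) (mem_Yc.1 ht)
    (fun h => htA (by simpa [mul_assoc] using pCore_conj_mem h g))
    (by simpa using pCore_conj_mem ha g⁻¹)
    (by
      have e : g⁻¹ * t * g * (g⁻¹ * a * g) * (g⁻¹ * t * g)⁻¹ * (g⁻¹ * a * g)⁻¹ =
          g⁻¹ * (t * a * t⁻¹ * a⁻¹) * g := by group
      rw [e, mul_assoc, ← C_central hc g, inv_mul_cancel_left]; exact hc)
  obtain ⟨h1, -⟩ := Subgroup.mem_inf.1 h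
  rw [Yc_one] at h1
  exact Subgroup.mem_inf.2 ⟨mem_Yc.2 h1, ha⟩

theorem comm_A {a b : L} (ha : a ∈ Cfsg.pCore p L) (hb : b ∈ Cfsg.pCore p L) :
    (a * b)⁻¹ * (b * a) ∈ C Y := by
  haveI hCn : (C Y).Normal := ⟨fun c hc x => by rw [C_central hc x, mul_inv_cancel_right]; exact hc⟩
  rw [← QuotientGroup.eq]
  obtain ⟨g, hg⟩ := D.exists_ne
  obtain ⟨u, hu, w, hw, rfl⟩ := D.decomp hg ha
  obtain ⟨u', hu', w', hw', rfl⟩ := D.decomp hg hb
  have hh : ∀ k, ∀ r ∈ U p Y k, ∀ s ∈ U p Y k, ((r : L) : L ⧸ C Y) * s = s * r := fun k r hr s hs => by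
    rw [← QuotientGroup.mk_mul, ← QuotientGroup.mk_mul,
      D.comm_Yc (Subgroup.mem_inf.1 hr).1 (Subgroup.mem_inf.1 hs).1]
  have hx : ∀ r ∈ U p Y 1, ∀ s ∈ U p Y g, ((r : L) : L ⧸ C Y) * s = s * r := fun r hr s hs => by
    rw [← QuotientGroup.mk_mul, ← QuotientGroup.mk_mul, QuotientGroup.eq]
    refine D.inter (g := 1) (k := g) (by rw [Yc_one]; exact hg.symm) ?_ ?_
    · rw [show (r * s)⁻¹ * (s * r) = s⁻¹ * r⁻¹ * (s⁻¹)⁻¹ * r by group]
      exact mul_mem ((Subgroup.mem_normalizer_iff.1 (D.U_normal (inv_mem (Subgroup.mem_inf.1 hs).2)) _).1 (inv_mem hr)) hr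
    · rw [show (r * s)⁻¹ * (s * r) = s⁻¹ * (r⁻¹ * s * (r⁻¹)⁻¹) by group]
      exact mul_mem (inv_mem hs) ((Subgroup.mem_normalizer_iff.1 (D.U_normal (inv_mem (Subgroup.mem_inf.1 hr).2)) _).1 hs)
  simp only [QuotientGroup.mk_mul]
  have e1 : Commute ((u : L) : L ⧸ C Y) u' := hh 1 u hu u' hu'
  have e2 : Commute ((w : L) : L ⧸ C Y) w' := hh g w hw w' hw'
  have e3 : Commute ((u : L) : L ⧸ C Y) w' := hx u hu w' hw'
  have e4 : Commute ((w : L) : L ⧸ C Y) u' := (hx u' hu' w hw).symm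
  exact ((e1.mul_right e3).mul_left (e4.mul_right e2)).eq

theorem expo_A {a : L} (ha : a ∈ Cfsg.pCore p L) : a ^ p ∈ C Y := by
  haveI hCn : (C Y).Normal := ⟨fun c hc x => by rw [C_central hc x, mul_inv_cancel_right]; exact hc⟩
  rw [← QuotientGroup.eq_one_iff, QuotientGroup.mk_pow]
  obtain ⟨g, hg⟩ := D.exists_ne
  obtain ⟨u, hu, w, hw, rfl⟩ := D.decomp hg ha
  have hc : Commute ((u : L) : L ⧸ C Y) w := by
    show _ * _ = _
    rw [← QuotientGroup.mk_mul, ← QuotientGroup.mk_mul, QuotientGroup.eq]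
    exact D.comm_A (Subgroup.mem_inf.1 hu).2 (Subgroup.mem_inf.1 hw).2
  have hp : ∀ k, ∀ r ∈ U p Y k, r ^ p = 1 := fun k r hr => D.expo_Yc (Subgroup.mem_inf.1 hr).1
  rw [QuotientGroup.mk_mul, hc.mul_pow, ← QuotientGroup.mk_pow, ← QuotientGroup.mk_pow, hp 1 u hu,
    hp g w hw, QuotientGroup.mk_one, one_mul]

/-- An element which is, modulo `O_p(L)`, inverted by an element of a conjugate of `Y`. -/
theorem fix_of_inverted (hp : p = 2) {g t h a : L} (ht : t ∈ Yc Y g) (htA : t ∉ Cfsg.pCore p L)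
    (hhA : h ∉ Cfsg.pCore p L) {r : ℕ} (hr : Odd r) (hhr : h ^ r ∈ Cfsg.pCore p L)
    (hinv : t * h * t⁻¹ * h ∈ Cfsg.pCore p L) (ha : a ∈ Cfsg.pCore p L)
    (hc : h * a * h⁻¹ * a⁻¹ ∈ C Y) : a ∈ C Y := by
  haveI := Cfsg.pCore_normal p L
  haveI hCn : (C Y).Normal := ⟨fun c hc x => by rw [C_central hc x, mul_inv_cancel_right]; exact hc⟩
  obtain ⟨A, hAdef⟩ : ∃ A, A = Cfsg.pCore p L := ⟨_, rfl⟩
  haveI : A.Normal := hAdef ▸ Cfsg.pCore_normal p L
  rw [← hAdef] at hhA hhr hinv htA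
  obtain ⟨m, hm⟩ := hr
  obtain ⟨k, hk⟩ : ∃ k, k = h ^ (m + 1) := ⟨_, rfl⟩
  obtain ⟨s, hs⟩ : ∃ s, s = k⁻¹ * t * k := ⟨_, rfl⟩
  have htt : t * t = 1 := by
    have := D.expo_Yc ht
    rwa [hp, pow_two] at this
  have hsY : s ∈ Yc Y (k⁻¹ * g) := by
    rw [mem_Yc] at ht ⊢
    simpa [hs, mul_assoc] using ht
  have hsA : s ∉ A := fun h' => htA (by
    have := Subgroup.Normal.conj_mem inferInstance _ h' k
    simpa [hs, mul_assoc] using this)
  have hkey : ((t * s : L) : L ⧸ A) = (h : L) := by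
    have e1 : (t : L ⧸ A) * h * (t : L ⧸ A)⁻¹ = (h : L ⧸ A)⁻¹ := by
      rw [eq_inv_iff_mul_eq_one, ← QuotientGroup.mk_inv, ← QuotientGroup.mk_mul, ← QuotientGroup.mk_mul,
        ← QuotientGroup.mk_mul, QuotientGroup.eq_one_iff]
      exact hinv
    have e2 : (t : L ⧸ A) * (k : L ⧸ A)⁻¹ * (t : L ⧸ A)⁻¹ = k := by
      rw [hk, QuotientGroup.mk_pow, ← inv_pow, ← conj_pow]
      congr 1
      have := congrArg Inv.inv e1
      simpa [mul_assoc] using this
    have e3 : (h : L ⧸ A) ^ r = 1 := by rw [← QuotientGroup.mk_pow, QuotientGroup.eq_one_iff]; exact hhr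
    have ht' : (t : L ⧸ A) * t = 1 := by rw [← QuotientGroup.mk_mul, htt, QuotientGroup.mk_one]
    have hti : (t : L ⧸ A)⁻¹ = t := inv_eq_of_mul_eq_one_left ht'
    rw [hti] at e2
    rw [hs, QuotientGroup.mk_mul, QuotientGroup.mk_mul, QuotientGroup.mk_mul, QuotientGroup.mk_inv,
      ← mul_assoc, ← mul_assoc, e2, hk, QuotientGroup.mk_pow, ← pow_add,
      show m + 1 + (m + 1) = r + 1 by omega, pow_succ, e3, one_mul]
  have hne : Yc Y g ≠ Yc Y (k⁻¹ * g) := by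
    intro e
    apply hhA
    have hcm := D.comm_Yc ht (e.symm ▸ hsY)
    have hss : s * s = 1 := by rw [hs, show k⁻¹ * t * k * (k⁻¹ * t * k) = k⁻¹ * (t * t) * k by group, htt]; group
    have h2 : (h : L ⧸ A) ^ 2 = 1 := by
      rw [← hkey, ← QuotientGroup.mk_pow, pow_two, show t * s * (t * s) = t * (s * t) * s by group,
        ← hcm, ← mul_assoc, htt, one_mul, hss, QuotientGroup.mk_one]
    have e3 : (h : L ⧸ A) ^ r = 1 := by rw [← QuotientGroup.mk_pow, QuotientGroup.eq_one_iff]; exact hhr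
    rw [hm, pow_succ, pow_mul, h2, one_pow, one_mul] at e3
    exact (QuotientGroup.eq_one_iff _).1 e3
  -- `t s` fixes `a` modulo `C`
  have hts : (((t * s) * a * (t * s)⁻¹ : L) : L ⧸ C Y) = (a : L) := by
    have hb : h⁻¹ * (t * s) ∈ A := QuotientGroup.eq.1 hkey.symm
    obtain ⟨b, hbA, hbe⟩ : ∃ b ∈ Cfsg.pCore p L, t * s = h * b :=
      ⟨_, hAdef ▸ hb, by rw [mul_inv_cancel_left]⟩
    have h1 : ((b * a * b⁻¹ : L) : L ⧸ C Y) = (a : L) := by
      have := D.comm_A hbA ha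
      rw [← QuotientGroup.eq] at this
      simp only [QuotientGroup.mk_mul, QuotientGroup.mk_inv] at this ⊢
      rw [this, mul_inv_cancel_right]
    have h2 : ((h * a * h⁻¹ : L) : L ⧸ C Y) = (a : L) := by
      rw [← QuotientGroup.eq_one_iff] at hc
      simp only [QuotientGroup.mk_mul, QuotientGroup.mk_inv] at hc ⊢
      exact mul_inv_eq_one.1 hc
    rw [hbe, show h * b * a * (h * b)⁻¹ = h * (b * a * b⁻¹) * h⁻¹ by group]
    simp only [QuotientGroup.mk_mul, QuotientGroup.mk_inv] at h1 h2 ⊢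
    rw [h1, h2]
  have hti : t⁻¹ = t := inv_eq_of_mul_eq_one_left htt
  have hd : ((t * a * t⁻¹ : L) : L ⧸ C Y) = ((s * a * s⁻¹ : L) : L ⧸ C Y) := by
    have e : (t * s) * a * (t * s)⁻¹ = t * (s * a * s⁻¹) * t⁻¹ := by group
    rw [e] at hts
    simp only [QuotientGroup.mk_mul, QuotientGroup.mk_inv] at hts ⊢
    conv_lhs => rw [← hts]
    have ht' : (t : L ⧸ C Y) * t = 1 := by rw [← QuotientGroup.mk_mul, htt, QuotientGroup.mk_one]
    have hti' : (t : L ⧸ C Y)⁻¹ = t := inv_eq_of_mul_eq_one_left ht'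
    rw [hti']
    simp only [← mul_assoc, ht', one_mul]
    rw [mul_assoc, ht', mul_one]
  have hd1 := D.move ht ha
  have hd2 := D.move hsY ha
  have hd' : (t * a * t⁻¹ * a⁻¹) * (s * a * s⁻¹ * a⁻¹)⁻¹ ∈ C Y := by
    rw [← QuotientGroup.eq_one_iff]
    simp only [QuotientGroup.mk_mul, QuotientGroup.mk_inv] at hd ⊢
    rw [hd, mul_inv_cancel]
  have hdt : t * a * t⁻¹ * a⁻¹ ∈ C Y := by
    refine D.inter hne hd1 ?_
    have := mul_mem (D.C_le_U _ hd') hd2
    simpa [mul_assoc] using this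
  have hds : s * a * s⁻¹ * a⁻¹ ∈ C Y := by
    have := mul_mem (inv_mem hd') hdt
    simpa [mul_assoc] using this
  exact D.inter hne (D.fix ht (hAdef ▸ htA) ha hdt) (D.fix hsY (hAdef ▸ hsA) ha hds)

end Data

end Cfsg.Agent.FrakLFix
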