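/-
Fixed points of semisimple elements on a quadratic SL_2-module whose root group has a
fixed space complementary to its Weyl conjugate.
-/
import Cfsg.Agent.Lib.Classical.PSL2Products
import Cfsg.Agent.Lib.Classical.SL2Classes

set_option autoImplicit false

namespace Cfsg.Agent.FrakLFix

open Matrix TwoByTwo SL2Classes

variable {F : Type*} [Field F]

local notation "SL2" => Matrix.SpecialLinearGroup (Fin 2) F

/-- The Weyl element. -/
def weyl : SL2 := ⟨!![0, 1; -1, 0], by simp [det_fin_two_of]⟩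

theorem weyl_val : (weyl (F := F)).1 = !![0, 1; -1, 0] := rfl

theorem weyl_sq_val : (weyl * weyl : SL2).1 = !![-1, 0; 0, -1] := by
  show (weyl (F := F)).1 * (weyl (F := F)).1 = _
  rw [weyl_val]
  ext i j; fin_cases i <;> fin_cases j <;> simp [Matrix.mul_apply, Fin.sum_univ_two]

theorem weyl_sq_comm (g : SL2) : weyl * weyl * g = g * (weyl * weyl) := by
  apply Subtype.ext
  show (weyl * weyl : SL2).1 * g.1 = g.1 * (weyl * weyl : SL2).1
  rw [weyl_sq_val]
  ext i j; fin_cases i <;> fin_cases j <;> simp [Matrix.mul_apply, Fin.sum_univ_two]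

theorem weyl_four : (weyl * weyl) * (weyl * weyl) = (1 : SL2) := by
  apply Subtype.ext
  show (weyl * weyl : SL2).1 * (weyl * weyl : SL2).1 = (1 : SL2).1
  rw [weyl_sq_val]
  ext i j; fin_cases i <;> fin_cases j <;> simp [Matrix.mul_apply, Fin.sum_univ_two]

theorem weyl_rel : upper 1 * weyl * upper 1 * (weyl * (weyl * weyl)) * upper 1 = (weyl : SL2) := by
  apply Subtype.ext
  show (upper (1 : F)).1 * (weyl : SL2).1 * (upper (1 : F)).1 * ((weyl : SL2).1 * (weyl * weyl : SL2).1) *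
    (upper (1 : F)).1 = (weyl : SL2).1
  rw [weyl_sq_val, weyl_val, upper_val]
  ext i j; fin_cases i <;> fin_cases j <;> simp [Matrix.mul_apply, Fin.sum_univ_two]

theorem upper_add (s t : F) : upper (s + t) = upper s * upper t := by
  apply Subtype.ext
  show _ = (upper s).1 * (upper t).1
  rw [upper_val, upper_val, upper_val]
  ext i j; fin_cases i <;> fin_cases j <;> simp [Matrix.mul_apply, Fin.sum_univ_two, add_comm]

theorem upper_zero : upper (0 : F) = 1 := by
  apply Subtype.ext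
  rw [upper_val]
  ext i j; fin_cases i <;> fin_cases j <;> simp

/-- The homomorphism `t ↦ upper t`. -/
def upperHom : Multiplicative F →* SL2 where
  toFun t := upper t.toAdd
  map_one' := upper_zero
  map_mul' s t := upper_add _ _

theorem upperHom_injective : Function.Injective (upperHom (F := F)) := fun s t h => by
  have := congrArg (fun x : SL2 => x.1 0 1) h
  simpa [upperHom] using this

theorem trace_weyl_upper (t : F) : (weyl * upper t : SL2).1.trace = -t := by
  show ((weyl : SL2).1 * (upper t).1).trace = -t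
  rw [weyl_val, upper_val]
  simp [Matrix.trace_fin_two, Matrix.mul_apply, Fin.sum_univ_two]

theorem not_scalar_weyl_upper (t : F) : ¬ IsScalar (weyl * upper t : SL2).1 := by
  intro h
  have h1 : ((weyl : SL2).1 * (upper t).1) 0 1 = 0 := h.1
  rw [weyl_val, upper_val] at h1
  simp [Matrix.mul_apply, Fin.sum_univ_two] at h1

/-- An element of prime order different from the characteristic is `-1` or is conjugate to some
`weyl * upper t` with `t + 2 ≠ 0`. -/
theorem reduce [Finite F] (p : ℕ) [Fact p.Prime] [CharP F p] {h : SL2} {r : ℕ} (hr : r.Prime)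
    (hrp : r ≠ p) (ho : orderOf h = r) :
    (h = weyl * weyl ∧ p ≠ 2) ∨ ∃ t : F, t + 2 ≠ 0 ∧ IsConj (weyl * upper t) h := by
  have hne : h ≠ 1 := fun e => hr.one_lt.ne (by rw [← ho, e, orderOf_one])
  by_cases hs : IsScalar h.1
  · left
    obtain ⟨h1, h2, h3⟩ := hs
    have hd := h.det_coe
    rw [det_fin_two, h1, h2, ← h3] at hd
    have hd' : (h.1 0 0 - 1) * (h.1 0 0 + 1) = 0 := by linear_combination hd
    have hn1 : h.1 0 0 ≠ 1 := by
      intro e
      apply hne
      apply Subtype.ext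
      rw [isScalar_iff.1 ⟨h1, h2, h3⟩, e, one_smul]
      rfl
    have hm : h.1 0 0 = -1 := eq_neg_of_add_eq_zero_left ((mul_eq_zero.1 hd').resolve_left (sub_ne_zero.2 hn1))
    refine ⟨?_, ?_⟩
    · apply Subtype.ext
      rw [weyl_sq_val, isScalar_iff.1 ⟨h1, h2, h3⟩, hm]
      ext i j; fin_cases i <;> fin_cases j <;> simp
    · rintro rfl
      exact hn1 (hm.trans (CharTwo.neg_eq (1 : F)))
  · right
    have hd : h.1.trace ^ 2 - 4 ≠ 0 := by
      intro e
      have hp1 := PSL2Products.trace_eq_two_cases e p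
      have hr1 : PSL2Products.pr h ^ r = 1 := by rw [← map_pow, ← ho, pow_orderOf_eq_one, map_one]
      have hc : Nat.Coprime p r := (Nat.coprime_primes Fact.out hr).2 (Ne.symm hrp)
      have := pow_gcd_eq_one.2 ⟨hp1, hr1⟩
      rw [hc.gcd_eq_one, pow_one] at this
      exact hs ((PSL2Products.pr_eq_one_iff h).1 this)
    refine ⟨-h.1.trace, fun e => hd ?_, PSL2Products.isConj_semisimple (not_scalar_weyl_upper _) hs ?_ ?_⟩
    · linear_combination (-h.1.trace - 2) * e
    · rw [trace_weyl_upper, neg_neg]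
    · rw [trace_weyl_upper, neg_neg]; exact hd

variable {V : Type*} [AddCommGroup V]

/-- The module theorem. -/
theorem eq_zero_of_fixed [Finite F] (p : ℕ) [Fact p.Prime] [CharP F p]
    (ρ : SL2 →* AddMonoid.End V) (U : AddSubgroup V)
    (hfix : ∀ t : F, t ≠ 0 → ∀ v : V, ρ (upper t) v = v ↔ v ∈ U)
    (hmove : ∀ t : F, ∀ v : V, ρ (upper t) v - v ∈ U)
    (hw : ∀ u ∈ U, ρ weyl u ∈ U → u = 0)
    (hdec : ∀ v : V, ∃ u ∈ U, ∃ u' ∈ U, v = u + ρ weyl u')
    (hp : ∀ v : V, p • v = 0) {h : SL2} {r : ℕ} (hr : r.Prime) (hrp : r ≠ p) (ho : orderOf h = r)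
    {v : V} (hv : ρ h v = v) : v = 0 := by
  have act : ∀ (a b : SL2) (x : V), ρ (a * b) x = ρ a (ρ b x) := fun a b x => by rw [map_mul]; rfl
  have act1 : ∀ x : V, ρ 1 x = x := fun x => by rw [map_one]; rfl
  have hx : ∀ t : F, ∀ u ∈ U, ρ (upper t) u = u := fun t u hu => by
    rcases eq_or_ne t 0 with rfl | ht
    · rw [upper_zero, act1]
    · exact (hfix t ht u).2 hu
  obtain ⟨x, hxdef⟩ : ∃ x : SL2, x = upper 1 := ⟨_, rfl⟩
  obtain ⟨w, hwdef⟩ : ∃ w : SL2, w = weyl := ⟨_, rfl⟩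
  obtain ⟨q, hqdef⟩ : ∃ q : SL2, q = weyl * weyl := ⟨_, rfl⟩
  rw [← hwdef] at hw hdec
  have hqU : ∀ u ∈ U, ρ q u ∈ U := fun u hu => (hfix 1 one_ne_zero _).1 (by
    rw [← act, hqdef, ← weyl_sq_comm, act, hx 1 u hu])
  have hqq : ∀ u, ρ q (ρ q u) = u := fun u => by rw [← act, hqdef, weyl_four, act1]
  have hww : ∀ u, ρ w (ρ w u) = ρ q u := fun u => by rw [← act, hwdef, hqdef]
  have hqw : ∀ u, ρ q (ρ w u) = ρ w (ρ q u) := fun u => by
    rw [← act, ← act, hwdef, hqdef, weyl_sq_comm]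
  have key : ∀ u ∈ U, ρ q u = -u ∧ ρ x (ρ w u) = ρ w u - u := by
    intro u hu
    have hx1 : ∀ z ∈ U, ρ x z = z := fun z hz => hxdef ▸ hx 1 z hz
    obtain ⟨n, hn⟩ : ∃ n, n = ρ x (ρ w u) - ρ w u := ⟨_, rfl⟩
    have hnU : n ∈ U := by rw [hn, hxdef]; exact hmove 1 _
    have hxb : ρ x (ρ w u) = ρ w u + n := by rw [hn, add_sub_cancel]
    obtain ⟨m, hm⟩ : ∃ m, m = ρ x (ρ w (ρ q n)) - ρ w (ρ q n) := ⟨_, rfl⟩
    have hmU : m ∈ U := by rw [hm, hxdef]; exact hmove 1 _
    have hxc : ρ x (ρ w (ρ q n)) = ρ w (ρ q n) + m := by rw [hm, add_sub_cancel]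
    have h1 : ρ w (ρ x (ρ w (ρ q (ρ w u)))) = ρ w u := by
      rw [hqw, hww, hqq, hx1 u hu]
    have h2 : ρ w (ρ x (ρ w (ρ q n))) = n + ρ w m := by
      rw [hxc, map_add, hww, hqq]
    have hrel : ρ (x * w * x * (w * q) * x) (ρ w u) = ρ w (ρ w u) := by
      rw [hxdef, hwdef, hqdef, weyl_rel]
    simp only [act] at hrel
    rw [hxb, map_add, map_add, map_add, map_add, h1, h2, hww, map_add, map_add, hxb, hx1 n hnU] at hrel
    -- `hrel : ρ w u + n + (n + ρ x (ρ w m)) = ρ q u`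
    obtain ⟨n', hn'⟩ : ∃ z, z = ρ x (ρ w m) - ρ w m := ⟨_, rfl⟩
    have hn'U : n' ∈ U := by rw [hn', hxdef]; exact hmove 1 _
    rw [show ρ x (ρ w m) = ρ w m + n' by rw [hn', add_sub_cancel]] at hrel
    have hum : ρ w (u + m) ∈ U := by
      have e : ρ w (u + m) = ρ q u - n - n - n' := by rw [map_add, ← hrel]; abel
      rw [e]
      exact U.sub_mem (U.sub_mem (U.sub_mem (hqU u hu) hnU) hnU) hn'U
    have hum0 := hw _ (U.add_mem hu hmU) hum
    have hmu : m = -u := eq_neg_of_add_eq_zero_right hum0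
    have hn'n : n' = -n := by
      rw [hn', hmu, map_neg, map_neg, hxb]; abel
    have hqn : ρ q u = n := by
      rw [← hrel, hmu, hn'n, map_neg]; abel
    -- apply the two identities to `ρ q n = u`
    have h3 : ρ q n = u := by rw [← hqn, hqq]
    have h4 : n = -u := by rw [← hmu, hm, h3, ← hn]
    exact ⟨by rw [hqn, h4], by rw [hxb, h4]; abel⟩
  obtain hred | ⟨t, ht, hc⟩ := reduce p hr hrp ho
  · obtain ⟨hh, hp2⟩ := hred
    rw [hh, ← hqdef] at hv
    obtain ⟨u, hu, u', hu', rfl⟩ := hdec v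
    rw [map_add, hqw, (key u hu).1, (key u' hu').1, map_neg] at hv
    obtain ⟨z, hz⟩ : ∃ z, z = u + ρ w u' := ⟨_, rfl⟩
    rw [← hz]
    have h2z : (2 : ℕ) • z = 0 := by
      have e : -z = z := by rw [hz]; rw [← sub_eq_zero] at hv ⊢; rw [← hv]; abel
      rw [two_nsmul]; nth_rewrite 1 [← e]; exact neg_add_cancel z
    have hcop : Nat.Coprime 2 p := (Nat.coprime_primes Nat.prime_two Fact.out).2 (Ne.symm hp2)
    have hd1 := addOrderOf_dvd_of_nsmul_eq_zero h2z
    have hd2 := addOrderOf_dvd_of_nsmul_eq_zero (hp z)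
    exact AddMonoid.addOrderOf_eq_one_iff.1 (Nat.eq_one_of_dvd_coprimes hcop hd1 hd2)
  · obtain ⟨g, rfl⟩ := isConj_iff.1 hc
    have hv' : ρ (w * upper t) (ρ g⁻¹ v) = ρ g⁻¹ v := by
      conv_rhs => rw [← hv]
      rw [← act, ← act, ← hwdef]
      congr 2
      group
    suffices h0 : ρ g⁻¹ v = 0 by
      have := congrArg (ρ g) h0
      rwa [← act, mul_inv_cancel, act1, map_zero] at this
    obtain ⟨v', hv'd⟩ : ∃ z, z = ρ g⁻¹ v := ⟨_, rfl⟩
    rw [← hv'd] at hv' ⊢
    obtain ⟨u, hu, u', hu', rfl⟩ := hdec v'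
    obtain ⟨n, hn⟩ : ∃ z, z = ρ (upper t) (ρ w u') - ρ w u' := ⟨_, rfl⟩
    have hnU : n ∈ U := hn ▸ hmove t _
    rw [act, map_add, hx t u hu, show ρ (upper t) (ρ w u') = ρ w u' + n by rw [hn, add_sub_cancel],
      map_add, map_add, hww, (key u' hu').1] at hv'
    have h1 : ρ w (u + n - u') = u + u' := by
      have e : ρ w (u + n - u') = (ρ w u + (-u' + ρ w n)) + u' - ρ w u' := by
        rw [map_sub, map_add]; abel
      rw [e, hv']; abel
    have hin : ρ w (u + n - u') ∈ U := by rw [h1]; exact U.add_mem hu hu'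
    have h2 := hw _ (U.sub_mem (U.add_mem hu hnU) hu') hin
    have h3 : u + u' = 0 := by rw [← h1, h2, map_zero]
    have hu' : u = -u' := eq_neg_of_add_eq_zero_left h3
    have hn2 : n = u' + u' := by
      rw [hu'] at h2
      have : n = (-u' + n - u') + (u' + u') := by abel
      rw [this, h2, zero_add]
    obtain ⟨b, hbdef⟩ : ∃ z, z = ρ w u' := ⟨_, rfl⟩
    have hb1 : ρ (upper 1) b = b - u' := by rw [hbdef, ← hxdef]; exact (key u' ‹_›).2
    have hbt : ρ (upper (t + 2)) b = b := by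
      rw [show t + 2 = (1 : F) + (1 + t) by ring, upper_add, upper_add, act, act]
      rw [show ρ (upper t) b = b + n by rw [hn, hbdef, add_sub_cancel], hn2, map_add, map_add,
        hb1, map_sub, hb1]; simp only [map_add, hx 1 u' ‹_›]
      abel
    have hb0 : u' = 0 := hw u' ‹_› (hbdef ▸ (hfix _ ht b).1 hbt)
    rw [hu', hb0, map_zero, neg_zero, add_zero]

end Cfsg.Agent.FrakLFix
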