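/-
Elements of prime order other than `p` act without fixed points on `O_p(L) / C_Y(L)`.
-/
import Cfsg.Agent.Lib.FrakLFix.Core
import Cfsg.Agent.Lib.FrakLFix.SL2
import Cfsg.Agent.Lib.Suzuki.Trace
import Cfsg.Agent.Lib.Suzuki.Minor
import Mathlib.GroupTheory.SpecificGroups.Dihedral

set_option autoImplicit false
set_option linter.unusedSectionVars false

namespace Cfsg.Agent.FrakLFix

open Cfsg.Agent.LEBasic

variable {L : Type*} [Group L] [Finite L] {p : ℕ} [Fact p.Prime] {Y : Subgroup L}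

instance pCoreNormal : (Cfsg.pCore p L).Normal := Cfsg.pCore_normal p L

/-- `C_Y(L)` inside `O_p(L)`. -/
abbrev CA (p : ℕ) (Y : Subgroup L) : Subgroup ↥(Cfsg.pCore p L) := (C Y).subgroupOf (Cfsg.pCore p L)

instance CA_normal : (CA p Y).Normal := ⟨fun c hc x => by
  have h : ((x * c * x⁻¹ : ↥(Cfsg.pCore p L)) : L) = c := by
    simp only [Subgroup.coe_mul, Subgroup.coe_inv]
    rw [C_central (Subgroup.mem_subgroupOf.1 hc), mul_inv_cancel_right]
  rw [Subgroup.mem_subgroupOf, h]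
  exact Subgroup.mem_subgroupOf.1 hc⟩

/-- The action of `L` on `O_p(L) / C_Y(L)`. -/
def actHom (p : ℕ) (Y : Subgroup L) : L →* Monoid.End (↥(Cfsg.pCore p L) ⧸ CA p Y) where
  toFun g := QuotientGroup.map (CA p Y) (CA p Y) (MulAut.conjNormal g).toMonoidHom (fun c hc => by
    have h : ((MulAut.conjNormal g c : ↥(Cfsg.pCore p L)) : L) = c := by
      rw [MulAut.conjNormal_apply, C_central (Subgroup.mem_subgroupOf.1 hc), mul_inv_cancel_right]
    rw [Subgroup.mem_comap, Subgroup.mem_subgroupOf]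
    show ((MulAut.conjNormal g c : ↥(Cfsg.pCore p L)) : L) ∈ C Y
    rw [h]
    exact Subgroup.mem_subgroupOf.1 hc)
  map_one' := by
    refine MonoidHom.ext fun x => ?_
    induction x using QuotientGroup.induction_on with
    | H a =>
      show ((MulAut.conjNormal (1 : L) a : ↥(Cfsg.pCore p L)) : _ ⧸ CA p Y) = _
      rw [map_one]; rfl
  map_mul' g k := by
    refine MonoidHom.ext fun x => ?_
    induction x using QuotientGroup.induction_on with
    | H a =>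
      show ((MulAut.conjNormal (g * k) a : ↥(Cfsg.pCore p L)) : _ ⧸ CA p Y) =
        ((MulAut.conjNormal g (MulAut.conjNormal k a) : ↥(Cfsg.pCore p L)) : _ ⧸ CA p Y)
      rw [map_mul]; rfl

theorem actHom_mk (g : L) (a : ↥(Cfsg.pCore p L)) :
    actHom p Y g (a : ↥(Cfsg.pCore p L) ⧸ CA p Y) = ((MulAut.conjNormal g a : ↥(Cfsg.pCore p L)) : _ ⧸ CA p Y) := rfl

theorem mk_eq_iff {a b : ↥(Cfsg.pCore p L)} :
    (a : ↥(Cfsg.pCore p L) ⧸ CA p Y) = b ↔ (a : L) * (b : L)⁻¹ ∈ C Y := by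
  rw [QuotientGroup.eq_iff_div_mem, Subgroup.mem_subgroupOf, div_eq_mul_inv]
  rfl

namespace Data

theorem sl2_case (D : Data p Y) {F : Type} [Field F] [Fintype F]
    (hq : Fintype.card F = Nat.card ↥(Y.map (QuotientGroup.mk' (Cfsg.pCore p L))))
    (e : L ⧸ Cfsg.pCore p L ≃* Matrix.SpecialLinearGroup (Fin 2) F) {h a : L} {r : ℕ} (hr : r.Prime)
    (hrp : r ≠ p) (ho : orderOf h = r) (ha : a ∈ Cfsg.pCore p L) (hc : h * a * h⁻¹ * a⁻¹ ∈ C Y) :
    a ∈ C Y := by
  classical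
  obtain ⟨A, hAdef⟩ : ∃ A, A = Cfsg.pCore p L := ⟨_, rfl⟩
  obtain ⟨π, hπ⟩ : ∃ π : L →* L ⧸ Cfsg.pCore p L, π = QuotientGroup.mk' _ := ⟨_, rfl⟩
  have hPp : IsPGroup p ↥(Y.map π) := D.pgrp.map π
  rw [← hπ] at hq
  -- the characteristic
  obtain ⟨n, hn⟩ := IsPGroup.iff_card.1 hPp
  haveI : CharP F p := by
    obtain ⟨p', hp'⟩ := CharP.exists F
    obtain ⟨k, hk, hck⟩ := FiniteField.card F p'
    rw [hq, hn] at hck
    have h1 : p' ∣ p := hk.dvd_of_dvd_pow (n := n) (hck ▸ dvd_pow_self _ k.pos.ne')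
    exact (Nat.prime_dvd_prime_iff_eq hk Fact.out).1 h1 ▸ hp'
  -- normalise the isomorphism
  obtain ⟨R, hR⟩ : ∃ R, R = (upperHom (F := F)).range := ⟨_, rfl⟩
  have hRc : Nat.card R = Fintype.card F := by
    rw [hR, ← Nat.card_congr (MonoidHom.ofInjective upperHom_injective).toEquiv, ← Nat.card_eq_fintype_card]
    exact Nat.card_congr Multiplicative.toAdd
  have hsyl : ∀ Q : Subgroup (Matrix.SpecialLinearGroup (Fin 2) F), Nat.card Q = Fintype.card F →
      IsPGroup p Q ∧ ¬ p ∣ Q.index := by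
    intro Q hQ
    refine ⟨IsPGroup.of_card (n := n) (by rw [hQ, hq, hn]), ?_⟩
    have h1 := Q.card_mul_index
    rw [TwoByTwo.card_sl_two, hQ, Nat.card_eq_fintype_card] at h1
    have h2 : Q.index = Fintype.card F ^ 2 - 1 := Nat.eq_of_mul_eq_mul_left Fintype.card_pos h1
    rw [h2]
    intro hd
    have h3 : p ∣ Fintype.card F ^ 2 := by
      have h4 : 1 < Fintype.card F := Fintype.one_lt_card
      rw [hq, hn] at h4 ⊢
      refine dvd_pow ?_ two_ne_zero
      exact dvd_pow_self p (fun e => by rw [e, pow_zero] at h4; omega)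
    have h5 : 1 ≤ Fintype.card F ^ 2 := Nat.one_le_pow _ _ Fintype.card_pos
    have := Nat.dvd_sub h3 hd
    rw [show Fintype.card F ^ 2 - (Fintype.card F ^ 2 - 1) = 1 by omega] at this
    exact (Fact.out : p.Prime).not_dvd_one this
  obtain ⟨Q, hQdef⟩ : ∃ Q, Q = (Y.map π).map e.toMonoidHom := ⟨_, rfl⟩
  have hQc : Nat.card Q = Fintype.card F := by
    rw [hq, hQdef]; exact (Nat.card_congr (Subgroup.equivMapOfInjective _ _ e.injective).toEquiv).symm
  obtain ⟨g₀, hg₀⟩ := MulAction.exists_smul_eq (Matrix.SpecialLinearGroup (Fin 2) F)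
    ((hsyl Q hQc).1.toSylow (hsyl Q hQc).2) ((hsyl R hRc).1.toSylow (hsyl R hRc).2)
  have hQR : Q.map (MulAut.conj g₀).toMonoidHom = R := by
    have := congrArg Sylow.toSubgroup hg₀
    rw [Sylow.coe_subgroup_smul] at this
    exact this
  obtain ⟨f, hf⟩ : ∃ f : L ⧸ Cfsg.pCore p L ≃* Matrix.SpecialLinearGroup (Fin 2) F,
      f = e.trans (MulAut.conj g₀) := ⟨_, rfl⟩
  obtain ⟨φ, hφ⟩ : ∃ φ : L →* Matrix.SpecialLinearGroup (Fin 2) F, φ = f.toMonoidHom.comp π := ⟨_, rfl⟩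
  have hφsurj : Function.Surjective φ := by
    rw [hφ, hπ]; exact f.surjective.comp (QuotientGroup.mk'_surjective _)
  have hφker : ∀ x, φ x = 1 ↔ x ∈ Cfsg.pCore p L := fun x => by
    rw [hφ, hπ, MonoidHom.comp_apply, MulEquiv.coe_toMonoidHom, EmbeddingLike.map_eq_one_iff]
    exact QuotientGroup.eq_one_iff x
  have hφY : Y.map φ = R := by
    rw [← hQR, hQdef, hφ, ← Subgroup.map_map, hf, Subgroup.map_map (Y.map π)]; rfl
  -- the module
  letI : CommGroup (↥(Cfsg.pCore p L) ⧸ CA p Y) :=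
    { (inferInstance : Group (↥(Cfsg.pCore p L) ⧸ CA p Y)) with
      mul_comm := fun x y => by
        induction x using QuotientGroup.induction_on with
        | H x =>
          induction y using QuotientGroup.induction_on with
          | H y =>
            refine (QuotientGroup.mk_mul _ _ _).symm.trans (Eq.trans ?_ (QuotientGroup.mk_mul _ _ _))
            rw [QuotientGroup.eq, Subgroup.mem_subgroupOf]
            exact D.comm_A x.2 y.2 }
  let toAdd : Monoid.End (↥(Cfsg.pCore p L) ⧸ CA p Y) →* AddMonoid.End (Additive (↥(Cfsg.pCore p L) ⧸ CA p Y)) :=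
    { toFun := fun g => MonoidHom.toAdditive g
      map_one' := rfl
      map_mul' := fun _ _ => rfl }
  obtain ⟨ρ₁, hρ₁⟩ : ∃ ρ₁, ρ₁ = toAdd.comp (actHom p Y) := ⟨_, rfl⟩
  have hρ₁_mk : ∀ (g : L) (x : ↥(Cfsg.pCore p L)), ρ₁ g (Additive.ofMul (x : ↥(Cfsg.pCore p L) ⧸ CA p Y)) =
      Additive.ofMul ((MulAut.conjNormal g x : ↥(Cfsg.pCore p L)) : ↥(Cfsg.pCore p L) ⧸ CA p Y) := by
    rw [hρ₁]; exact fun g x => rfl
  have hsurjV : ∀ v : Additive (↥(Cfsg.pCore p L) ⧸ CA p Y),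
      ∃ x : ↥(Cfsg.pCore p L), v = Additive.ofMul (x : ↥(Cfsg.pCore p L) ⧸ CA p Y) := fun v => by
    obtain ⟨x, hx⟩ := QuotientGroup.mk_surjective (Additive.toMul v)
    exact ⟨x, by rw [hx]; rfl⟩
  have htriv : φ.ker ≤ ρ₁.ker := by
    intro g hg
    have hgA := (hφker g).1 hg
    rw [MonoidHom.mem_ker]
    refine DFunLike.ext _ _ fun v => ?_
    obtain ⟨x, rfl⟩ := hsurjV v
    rw [hρ₁_mk]
    show _ = Additive.ofMul _
    congr 1
    rw [mk_eq_iff, MulAut.conjNormal_apply]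
    have h1 := D.comm_A hgA x.2
    have h2 := (Subgroup.mem_inf.1 h1).2
    have e1 : g * (x : L) * g⁻¹ * (x : L)⁻¹ =
        ((x : L) * g) * ((g * (x : L))⁻¹ * ((x : L) * g))⁻¹ * ((x : L) * g)⁻¹ := by group
    rw [e1, C_central (inv_mem h1) ((x : L) * g), mul_inv_cancel_right]
    exact inv_mem h1
  have hconst : ∀ g k : L, φ g = φ k → ρ₁ g = ρ₁ k := fun g k hgk => by
    have hk : g⁻¹ * k ∈ φ.ker := by rw [MonoidHom.mem_ker, map_mul, map_inv, hgk, inv_mul_cancel]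
    rw [show k = g * (g⁻¹ * k) by group, map_mul, MonoidHom.mem_ker.1 (htriv hk), mul_one]
  obtain ⟨ρ, hρφ⟩ : ∃ ρ : Matrix.SpecialLinearGroup (Fin 2) F →*
      AddMonoid.End (Additive (↥(Cfsg.pCore p L) ⧸ CA p Y)), ∀ g, ρ (φ g) = ρ₁ g :=
    ⟨{ toFun := fun z => ρ₁ (Function.surjInv hφsurj z)
       map_one' := (hconst _ 1 (by rw [Function.surjInv_eq hφsurj, map_one])).trans (map_one ρ₁)
       map_mul' := fun z z' => (hconst _ _ (by
          rw [map_mul, Function.surjInv_eq hφsurj, Function.surjInv_eq hφsurj, Function.surjInv_eq hφsurj])).trans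
          (map_mul ρ₁ _ _) },
      fun g => hconst _ _ (Function.surjInv_eq hφsurj _)⟩
  obtain ⟨Us, hUs⟩ : ∃ Us : AddSubgroup (Additive (↥(Cfsg.pCore p L) ⧸ CA p Y)), Us = Subgroup.toAddSubgroup
      (((U p Y 1).subgroupOf (Cfsg.pCore p L)).map (QuotientGroup.mk' (CA p Y))) := ⟨_, rfl⟩
  have memUs : ∀ x : ↥(Cfsg.pCore p L),
      Additive.ofMul (x : ↥(Cfsg.pCore p L) ⧸ CA p Y) ∈ Us ↔ (x : L) ∈ U p Y 1 := by
    intro x
    rw [hUs]
    show (x : ↥(Cfsg.pCore p L) ⧸ CA p Y) ∈ _ ↔ _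
    constructor
    · rintro ⟨u, hu, hue⟩
      have := mk_eq_iff.1 (show (x : ↥(Cfsg.pCore p L) ⧸ CA p Y) = u from hue.symm)
      have := mul_mem (D.C_le_U 1 this) (Subgroup.mem_subgroupOf.1 hu)
      simpa using this
    · intro hx
      exact ⟨x, Subgroup.mem_subgroupOf.2 hx, rfl⟩
  have hlift : ∀ t : F, ∃ y ∈ Y, φ y = SL2Classes.upper t := by
    intro t
    have ht : SL2Classes.upper t ∈ Y.map φ := by rw [hφY, hR]; exact ⟨Multiplicative.ofAdd t, rfl⟩
    exact ht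
  obtain ⟨ω, hω⟩ := hφsurj weyl
  have hωY : Yc Y ω ≠ Y := by
    intro hn
    have h1 := congrArg (Subgroup.map φ) hn
    have h2 : weyl * SL2Classes.upper (1 : F) * weyl⁻¹ ∈ R := by
      obtain ⟨y, hy, hye⟩ := hlift 1
      rw [← hφY, ← h1]
      exact ⟨ω * y * ω⁻¹, ⟨y, hy, rfl⟩, by rw [map_mul, map_mul, map_inv, hω, hye]⟩
    rw [hR] at h2
    obtain ⟨t, ht⟩ := h2
    have h3 : upperHom t * weyl = weyl * SL2Classes.upper (1 : F) := by rw [ht, inv_mul_cancel_right]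
    have h4 : ((SL2Classes.upper (Multiplicative.toAdd t)).1 * (weyl (F := F)).1) 1 1 =
        ((weyl (F := F)).1 * (SL2Classes.upper (1 : F)).1) 1 1 :=
      congrArg (fun z : Matrix.SpecialLinearGroup (Fin 2) F => z.1 1 1) h3
    rw [SL2Classes.upper_val, SL2Classes.upper_val, weyl_val] at h4
    simp [Matrix.mul_apply, Fin.sum_univ_two] at h4
  have hconjU : ∀ x : ↥(Cfsg.pCore p L), (x : L) ∈ U p Y 1 →
      ((MulAut.conjNormal ω x : ↥(Cfsg.pCore p L)) : L) ∈ U p Y ω := fun x hx => by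
    refine Subgroup.mem_inf.2 ⟨?_, (MulAut.conjNormal ω x).2⟩
    rw [MulAut.conjNormal_apply, mem_Yc]
    have := (Subgroup.mem_inf.1 hx).1
    rw [Yc_one] at this
    simpa [mul_assoc] using this
  have hexp : ∀ v : Additive (↥(Cfsg.pCore p L) ⧸ CA p Y), p • v = 0 := fun v => by
    obtain ⟨x, rfl⟩ := hsurjV v
    rw [← ofMul_pow, ← QuotientGroup.mk_pow]
    show Additive.ofMul _ = Additive.ofMul 1
    congr 1
    rw [QuotientGroup.eq_one_iff, Subgroup.mem_subgroupOf, Subgroup.coe_pow]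
    exact D.expo_A x.2
  -- the element
  have hφh : orderOf (φ h) = r := by
    have h1 : orderOf (φ h) ∣ r := ho ▸ orderOf_map_dvd φ h
    refine ((Nat.dvd_prime hr).1 h1).resolve_left fun h2 => ?_
    have h3 := (hφker h).1 (orderOf_eq_one_iff.1 h2)
    obtain ⟨k, hk⟩ := pCore_isPGroup (p := p) (G := L) ⟨h, h3⟩
    have h4 : r ∣ p ^ k := ho ▸ orderOf_dvd_of_pow_eq_one (congrArg Subtype.val hk)
    exact hrp ((Nat.prime_dvd_prime_iff_eq hr Fact.out).1 (hr.dvd_of_dvd_pow h4))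
  have hfixed : ρ (φ h) (Additive.ofMul ((⟨a, ha⟩ : ↥(Cfsg.pCore p L)) : ↥(Cfsg.pCore p L) ⧸ CA p Y)) =
      Additive.ofMul ((⟨a, ha⟩ : ↥(Cfsg.pCore p L)) : ↥(Cfsg.pCore p L) ⧸ CA p Y) := by
    rw [hρφ, hρ₁_mk]
    congr 1
    rw [mk_eq_iff, MulAut.conjNormal_apply]
    exact hc
  have hzero := eq_zero_of_fixed p ρ Us ?_ ?_ ?_ ?_ hexp hr hrp hφh hfixed
  · have := (QuotientGroup.eq_one_iff (⟨a, ha⟩ : ↥(Cfsg.pCore p L))).1 hzero
    exact Subgroup.mem_subgroupOf.1 this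
  · intro t ht v
    obtain ⟨x, rfl⟩ := hsurjV v
    obtain ⟨y, hy, hye⟩ := hlift t
    rw [memUs, ← hye, hρφ, hρ₁_mk, Additive.ofMul.injective.eq_iff, mk_eq_iff, MulAut.conjNormal_apply]
    refine ⟨fun hh => ?_, fun hx => ?_⟩
    · refine D.fix (g := 1) (by rw [Yc_one]; exact hy) (fun hyA => ht ?_) x.2 hh
      have h0 := (hφker y).2 hyA
      rw [hye] at h0
      have := congrArg (fun z : Matrix.SpecialLinearGroup (Fin 2) F => z.1 0 1) h0
      simpa using this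
    · have := (Subgroup.mem_inf.1 hx).1
      rw [Yc_one] at this
      rw [D.comm y hy _ this, mul_inv_cancel_right, mul_inv_cancel]
      exact one_mem _
  · intro t v
    obtain ⟨x, rfl⟩ := hsurjV v
    obtain ⟨y, hy, hye⟩ := hlift t
    rw [← hye, hρφ, hρ₁_mk, ← ofMul_div, ← QuotientGroup.mk_div, memUs, Subgroup.coe_div, div_eq_mul_inv,
      MulAut.conjNormal_apply]
    exact D.move (by rw [Yc_one]; exact hy) x.2
  · intro v hv hv'
    obtain ⟨x, rfl⟩ := hsurjV v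
    rw [memUs] at hv
    rw [← hω, hρφ, hρ₁_mk, memUs] at hv'
    have h1 := D.inter (k := 1) (by rw [Yc_one]; exact hωY) (hconjU x hv) hv'
    have h2 : (x : L) ∈ C Y := by
      rw [MulAut.conjNormal_apply] at h1
      have h3 := C_central h1 ω⁻¹
      have : (x : L) = ω * (x : L) * ω⁻¹ := by
        calc (x : L) = ω⁻¹ * (ω * (x : L) * ω⁻¹) * ω := by group
          _ = _ := by rw [h3]; group
      rwa [← this] at h1
    show Additive.ofMul _ = Additive.ofMul 1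
    congr 1
    rw [QuotientGroup.eq_one_iff]
    exact Subgroup.mem_subgroupOf.2 h2
  · intro v
    obtain ⟨x, rfl⟩ := hsurjV v
    obtain ⟨u, hu, w, hw, he⟩ := D.decomp hωY x.2
    obtain ⟨hw1, hw2⟩ := Subgroup.mem_inf.1 hw
    rw [mem_Yc] at hw1
    have hw' : ω⁻¹ * w * ω ∈ U p Y 1 := Subgroup.mem_inf.2 ⟨by rw [Yc_one]; exact hw1,
      by simpa using pCore_conj_mem hw2 ω⁻¹⟩
    obtain ⟨hu1, hu2⟩ := Subgroup.mem_inf.1 hu
    refine ⟨Additive.ofMul ((⟨u, hu2⟩ : ↥(Cfsg.pCore p L)) : _ ⧸ CA p Y), (memUs _).2 hu,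
      Additive.ofMul ((⟨ω⁻¹ * w * ω, (Subgroup.mem_inf.1 hw').2⟩ : ↥(Cfsg.pCore p L)) : _ ⧸ CA p Y),
      (memUs _).2 hw', ?_⟩
    rw [← hω, hρφ, hρ₁_mk, ← ofMul_mul, ← QuotientGroup.mk_mul]
    congr 2
    apply Subtype.ext
    rw [Subgroup.coe_mul, MulAut.conjNormal_apply, he]
    show u * w = u * (ω * (ω⁻¹ * w * ω) * ω⁻¹)
    group

/-- `|Y : Y ∩ O_p(L)| = 2`. -/
theorem two_case (D : Data p Y) (hp : p = 2)
    (hq : Nat.card ↥(Y.map (QuotientGroup.mk' (Cfsg.pCore p L))) = 2)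
    {h a : L} {r : ℕ} (hr : Odd r) (hhr : h ^ r = 1) (hhA : h ∉ Cfsg.pCore p L)
    (ha : a ∈ Cfsg.pCore p L) (hc : h * a * h⁻¹ * a⁻¹ ∈ C Y) : a ∈ C Y := by
  obtain ⟨π, hπ⟩ : ∃ π : L →* L ⧸ Cfsg.pCore p L, π = QuotientGroup.mk' _ := ⟨_, rfl⟩
  rw [← hπ] at hq
  have hker : ∀ x, π x = 1 ↔ x ∈ Cfsg.pCore p L := fun x => by rw [hπ]; exact QuotientGroup.eq_one_iff x
  obtain ⟨y, hy, hyA⟩ := SetLike.not_le_iff_exists.1 D.not_le
  obtain ⟨g, hg⟩ := D.exists_ne
  have hYy : ∀ z ∈ Y, π z = 1 ∨ π z = π y := by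
    intro z hz
    by_contra hcon
    push Not at hcon
    have hy1 : π y ≠ 1 := fun e => hyA ((hker y).1 e)
    have h3 : 2 < Nat.card ↥(Y.map π) := by
      rw [← SetLike.coe_sort_coe, Nat.card_coe_set_eq]
      refine lt_of_lt_of_le ?_ (Set.ncard_le_ncard (s := {1, π y, π z}) ?_ (Set.toFinite _))
      · rw [Set.ncard_insert_of_notMem (by simp [hy1.symm, Ne.symm hcon.1]), Set.ncard_pair (Ne.symm hcon.2)]
        omega
      · rintro x (rfl | rfl | rfl)
        · exact one_mem _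
        · exact ⟨y, hy, rfl⟩
        · exact ⟨z, hz, rfl⟩
    omega
  obtain ⟨t, ht⟩ : ∃ t, t = π y := ⟨_, rfl⟩
  obtain ⟨s, hs⟩ : ∃ s, s = π (g * y * g⁻¹) := ⟨_, rfl⟩
  have hyy : y * y = 1 := by have := D.expo y hy; rwa [hp, pow_two] at this
  have htt : t * t = 1 := by rw [ht, ← map_mul, hyy, map_one]
  have hss : s * s = 1 := by
    rw [hs, ← map_mul, show g * y * g⁻¹ * (g * y * g⁻¹) = g * (y * y) * g⁻¹ by group, hyy, mul_one,
      mul_inv_cancel, map_one]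
  have hti : t⁻¹ = t := inv_eq_of_mul_eq_one_left htt
  have hinvZ : ∀ z ∈ Subgroup.zpowers (t * s), t * z * t⁻¹ = z⁻¹ := by
    rintro _ ⟨n, rfl⟩
    rw [← conj_zpow, ← inv_zpow]
    congr 1
    rw [hti, mul_inv_rev, hti, inv_eq_of_mul_eq_one_left hss, ← mul_assoc t t s, htt, one_mul]
  let M : Subgroup (L ⧸ Cfsg.pCore p L) :=
    { carrier := {x | x ∈ Subgroup.zpowers (t * s) ∨ t * x ∈ Subgroup.zpowers (t * s)}
      one_mem' := Or.inl (one_mem _)
      mul_mem' := fun {x z} hx hz => by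
        rcases hx with hx | hx <;> rcases hz with hz | hz
        · exact Or.inl (mul_mem hx hz)
        · refine Or.inr ?_
          rw [show t * (x * z) = t * x * t⁻¹ * (t * z) by group, hinvZ x hx]
          exact mul_mem (inv_mem hx) hz
        · exact Or.inr (by rw [← mul_assoc]; exact mul_mem hx hz)
        · refine Or.inl ?_
          rw [show x * z = t⁻¹ * (t * x) * t⁻¹⁻¹ * (t⁻¹ * (t⁻¹ * 1)) * (t * z) by group]
          rw [inv_inv, hti, mul_one, htt, mul_one, show t * (t * x) * t = t * (t * x) * t⁻¹ by rw [hti],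
            hinvZ _ hx]
          exact mul_mem (inv_mem hx) hz
      inv_mem' := fun {x} hx => by
        rcases hx with hx | hx
        · exact Or.inl (inv_mem hx)
        · refine Or.inr ?_
          have h1 := hinvZ _ hx
          rw [hti, ← mul_assoc t t x, htt, one_mul] at h1
          have h2 := congrArg (fun u => u⁻¹) h1
          simp only [inv_inv] at h2
          rw [mul_inv_rev, hti] at h2
          rw [h2]; exact hx }
  have hM : M = ⊤ := by
    have h1 : π.range ≤ M := by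
      rw [MonoidHom.range_eq_map, ← D.gen_two (g := g) (fun h => hg (map_conj_eq_iff_mem_normalizer.2 h)),
        Subgroup.map_sup]
      refine sup_le ?_ ?_
      · rintro _ ⟨z, hz, rfl⟩
        rcases hYy z hz with e | e <;> rw [e]
        · exact one_mem _
        · exact Or.inr (by rw [← ht, htt]; exact one_mem _)
      · rintro _ ⟨_, ⟨z, hz, rfl⟩, rfl⟩
        have e0 : π (MulAut.conj g z) = π g * π z * (π g)⁻¹ := by rw [MulAut.conj_apply, map_mul, map_mul, map_inv]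
        show π (MulAut.conj g z) ∈ M
        rw [e0]
        rcases hYy z hz with e | e <;> rw [e]
        · rw [mul_one, mul_inv_cancel]; exact one_mem _
        · rw [← map_inv, ← map_mul, ← map_mul, ← hs]
          exact Or.inr (Subgroup.mem_zpowers _)
    rw [hπ, MonoidHom.range_eq_top.2 (QuotientGroup.mk'_surjective _)] at h1
    exact top_le_iff.1 h1
  have hhM : π h ∈ M := hM ▸ Subgroup.mem_top _
  have hπr : π h ^ r = 1 := by rw [← map_pow, hhr, map_one]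
  have hZ : π h ∈ Subgroup.zpowers (t * s) := by
    rcases hhM with h' | h'
    · exact h'
    · exfalso
      apply hhA
      have h1 := hinvZ _ h'
      rw [hti, ← mul_assoc t t, htt, one_mul] at h1
      have h2 : π h * π h = 1 := by
        calc π h * π h = (π h * t) * (t * π h) := by rw [mul_assoc, ← mul_assoc t t, htt, one_mul]
          _ = _ := by rw [h1, inv_mul_cancel]
      obtain ⟨m, hm⟩ := hr
      rw [hm, pow_succ, pow_mul, pow_two, h2, one_pow, one_mul] at hπr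
      exact (hker h).1 hπr
  refine D.fix_of_inverted hp (g := 1) (t := y) (by rw [Yc_one]; exact hy) hyA hhA hr
    (by rw [hhr]; exact one_mem _) ?_ ha hc
  rw [← hker, map_mul, map_mul, map_mul, map_inv, ← ht, hinvZ _ hZ, inv_mul_cancel]

/-- The Suzuki case. -/
theorem sz_case (D : Data p Y) (hp : p = 2) {F : Type} [Field F] [Fintype F] {m : ℕ}
    (hF : Fintype.card F = 2 ^ (2 * m + 1)) (hm : 1 ≤ m)
    (hq : Fintype.card F = Nat.card ↥(Y.map (QuotientGroup.mk' (Cfsg.pCore p L))))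
    (e : L ⧸ Cfsg.pCore p L ≃* ↥(Cfsg.Lie.Sz F (2 ^ (m + 1))))
    {h a : L} {r : ℕ} (hr : Odd r) (hhr : h ^ r = 1) (hhA : h ∉ Cfsg.pCore p L)
    (ha : a ∈ Cfsg.pCore p L) (hc : h * a * h⁻¹ * a⁻¹ ∈ C Y) : a ∈ C Y := by
  subst hp
  have hS : Suzuki.SzField F m := ⟨hm, hF⟩
  obtain ⟨φ, hφ⟩ : ∃ φ : L →* Cfsg.Sz F m,
      φ = (e.trans (Suzuki.minorEquiv hS).symm).toMonoidHom.comp (QuotientGroup.mk' _) := ⟨_, rfl⟩
  have hker : ∀ x, φ x = 1 ↔ x ∈ Cfsg.pCore 2 L := fun x => by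
    rw [hφ, MonoidHom.comp_apply, MulEquiv.coe_toMonoidHom, EmbeddingLike.map_eq_one_iff]
    exact QuotientGroup.eq_one_iff x
  have hsurj : Function.Surjective φ := by
    rw [hφ]; exact (e.trans (Suzuki.minorEquiv hS).symm).surjective.comp (QuotientGroup.mk'_surjective _)
  have hc2 : Nat.card ↥(Y.map φ) = 2 ^ (2 * m + 1) := by
    rw [hφ, ← Subgroup.map_map, ← hF, hq]
    exact (Nat.card_congr (Subgroup.equivMapOfInjective _ _
      (e.trans (Suzuki.minorEquiv hS).symm).injective).toEquiv).symm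
  obtain ⟨u, hu⟩ := Suzuki.exists_conj_isPGroup_le hS (D.pgrp.map φ)
  have hle : (Y.map φ).map (MulAut.conj u).toMonoidHom ≤ Suzuki.zGroup hS := by
    rintro _ ⟨_, ⟨y, hy, rfl⟩, rfl⟩
    refine Suzuki.involution_in_rootGroup hS (hu _ ⟨y, hy, rfl⟩) ?_
    show u * φ y * u⁻¹ * (u * φ y * u⁻¹) = 1
    rw [show u * φ y * u⁻¹ * (u * φ y * u⁻¹) = u * (φ y * φ y) * u⁻¹ by group, ← map_mul, ← pow_two,
      D.expo y hy, map_one, mul_one, mul_inv_cancel]
  have heq := Subgroup.eq_of_le_of_card_ge hle (by rw [Suzuki.card_zGroup, card_map_conj, hc2])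
  obtain ⟨x, hx⟩ : ∃ x, x = φ h := ⟨_, rfl⟩
  have hx1 : x ≠ 1 := fun e' => hhA ((hker h).1 (hx ▸ e'))
  have hxr : x ^ r = 1 := by rw [hx, ← map_pow, hhr, map_one]
  have hx4 : x ^ 4 ≠ 1 := by
    intro e4
    refine hx1 ?_
    have := pow_gcd_eq_one.2 ⟨e4, hxr⟩
    have hcop : Nat.Coprime 4 r := by
      rw [show (4 : ℕ) = 2 ^ 2 by norm_num]
      exact Nat.Coprime.pow_left 2 (Nat.coprime_two_left.2 hr)
    rwa [hcop.gcd_eq_one, pow_one] at this
  obtain ⟨T, ε, hT, hxT, -⟩ := Suzuki.semisimple_cases hS hx4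
  obtain ⟨s, hsN, hs2⟩ := hT.exists_involution hS
  have hinv := hT.invert hS hsN hs2 hxT
  obtain ⟨w, hw⟩ := Suzuki.exists_conj_mem_rootGroup hS (x := s) (n := 1)
    (by rw [pow_one, ← hs2, pow_orderOf_eq_one])
  have hwz := Suzuki.involution_in_rootGroup hS hw (by
    rw [show w * s * w⁻¹ * (w * s * w⁻¹) = w * (s * s) * w⁻¹ by group, ← pow_two, ← hs2, pow_orderOf_eq_one]
    group)
  rw [← heq] at hwz
  obtain ⟨_, ⟨y, hy, rfl⟩, hye⟩ := hwz
  obtain ⟨g, hg⟩ := hsurj (w⁻¹ * u)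
  have hse : φ (g * y * g⁻¹) = s := by
    have hye' : u * φ y * u⁻¹ = w * s * w⁻¹ := hye
    rw [map_mul, map_mul, map_inv, hg, show w⁻¹ * u * φ y * (w⁻¹ * u)⁻¹ = w⁻¹ * (u * φ y * u⁻¹) * w by group, hye']
    group
  refine D.fix_of_inverted rfl (g := g) (t := g * y * g⁻¹) ⟨y, hy, rfl⟩ ?_ hhA hr
    (by rw [hhr]; exact one_mem _) ?_ ha hc
  · intro hA'
    have := (hker _).2 hA'
    rw [hse] at this
    rw [this, orderOf_one] at hs2
    omega
  · rw [← hker, map_mul, map_mul, map_mul, map_inv, hse, ← hx, hinv, inv_mul_cancel]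

end Data

end Cfsg.Agent.FrakLFix
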